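import Groth.Agent.EGA41CM.Localize
import Mathlib.RingTheory.Spectrum.Prime.Topology
import Groth.Agent.Catenary.Ring

/-!
# Saturated chains for Cohen–Macaulay modules with full support
-/

set_option autoImplicit false
set_option linter.style.haveILetI false

universe u

open IsLocalRing

namespace Groth.Agent.CMChain

variable {A : Type u} [CommRing A] [IsLocalRing A] [IsNoetherianRing A]
variable (M : Type u) [AddCommGroup M] [Module A M] [Module.Finite A M]

theorem supportDim_eq_dim {R : Type u} [CommRing R] (N : Type u) [AddCommGroup N] [Module R N]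
    (h : Module.support R N = Set.univ) : Module.supportDim R N = ringKrullDim R := by
  rw [Module.supportDim, h, ringKrullDim]
  exact Order.krullDim_eq_of_orderIso OrderIso.Set.univ

omit [IsLocalRing A] [IsNoetherianRing A] in
theorem support_localized (hsupp : Module.support A M = Set.univ) (p : Ideal A) [p.IsPrime] :
    Module.support (Localization.AtPrime p) (LocalizedModule p.primeCompl M) = Set.univ := by
  classical
  refine Set.eq_univ_of_forall fun P => Module.mem_support_iff_of_finite.mpr fun a ha => ?_
  obtain ⟨⟨x, s⟩, rfl⟩ := IsLocalization.mk'_surjective p.primeCompl a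
  show IsLocalization.mk' (Localization.AtPrime p) x s ∈ P.asIdeal
  rw [IsLocalization.mk'_mem_iff]
  have hx : ∀ z : LocalizedModule p.primeCompl M, x • z = 0 := fun z => by
    rw [← algebraMap_smul (Localization.AtPrime p), ← IsLocalization.mk'_spec (Localization.AtPrime p) x s,
      mul_comm, mul_smul, Module.mem_annihilator.mp ha, smul_zero]
  obtain ⟨G, hG⟩ := Module.Finite.fg_top (R := A) (M := M)
  have hkill : ∀ m : M, ∃ t : p.primeCompl, (t : A) • x • m = 0 := fun m => by
    have := hx (LocalizedModule.mkLinearMap p.primeCompl M m)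
    rw [← map_smul, IsLocalizedModule.eq_zero_iff p.primeCompl] at this
    exact this
  choose t ht using hkill
  let T : p.primeCompl := ∏ g ∈ G, t g
  have hann : (T : A) * x ∈ Module.annihilator A M := by
    rw [← Submodule.annihilator_top, ← hG, Submodule.mem_annihilator_span]
    rintro ⟨g, hg⟩
    obtain ⟨c, hc⟩ := Finset.dvd_prod_of_mem t hg
    show ((T : A) * x) • g = 0
    rw [show (T : A) = (t g : A) * (c : A) from congrArg Subtype.val hc, mul_right_comm, mul_comm, mul_smul, mul_smul, ht, smul_zero]
  have hnil : (T : A) * x ∈ P.asIdeal.comap (algebraMap A _) := by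
    have : (⟨P.asIdeal.comap (algebraMap A (Localization.AtPrime p)), Ideal.comap_isPrime _ _⟩ : PrimeSpectrum A) ∈ Module.support A M := by
      rw [hsupp]; trivial
    exact Module.mem_support_iff_of_finite.mp this hann
  rw [Ideal.mem_comap, map_mul] at hnil
  exact (Ideal.IsPrime.mem_or_mem P.isPrime hnil).resolve_left fun h =>
    P.isPrime.ne_top (Ideal.eq_top_of_isUnit_mem _ h (IsLocalization.map_units _ T))

theorem height_add_dim (hM : LocCoh.IsCohenMacaulayModule A M) (hsupp : Module.support A M = Set.univ)
    (p : PrimeSpectrum A) : ringKrullDim (A ⧸ p.asIdeal) + (p.asIdeal.height : WithBot ℕ∞) = ringKrullDim A := by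
  have hp : p ∈ Module.support A M := by rw [hsupp]; trivial
  obtain ⟨r, xs, hlen, hxs, hr, hd⟩ := EGA41CM.exists_cut hM p hp
  have h := (EGA41CM.localized hM p hlen hxs hr hd hp).1
  rw [supportDim_eq_dim _ (support_localized M hsupp p.asIdeal),
    IsLocalization.AtPrime.ringKrullDim_eq_height p.asIdeal] at h
  rw [h, hd, supportDim_eq_dim _ hsupp]

theorem height_covBy (hM : LocCoh.IsCohenMacaulayModule A M) (hsupp : Module.support A M = Set.univ)
    {p q : PrimeSpectrum A} (hpq : p ⋖ q) : q.asIdeal.height = p.asIdeal.height + 1 := by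
  have hqs : q ∈ Module.support A M := by rw [hsupp]; trivial
  obtain ⟨r, xs, hlen, hxs, hr, hd⟩ := EGA41CM.exists_cut hM q hqs
  have hloc := (EGA41CM.localized hM q hlen hxs hr hd hqs).2
  let R := Localization.AtPrime q.asIdeal
  let e := Catenary.localizationEmbedding q.asIdeal.primeCompl R
  have hrange : Set.range e = {x : PrimeSpectrum A | x ≤ q} := by
    rw [Catenary.range_localizationEmbedding]
    ext x
    exact ⟨fun h z hz => by_contra fun hzq => Set.disjoint_left.mp h hzq hz,
      fun h => Set.disjoint_left.mpr fun z hz hzx => hz (h hzx)⟩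
  obtain ⟨p', hp'⟩ : p ∈ Set.range e := by rw [hrange]; exact hpq.le
  have hq' : e (closedPoint R) = q := PrimeSpectrum.ext (Localization.AtPrime.comap_maximalIdeal)
  have hlt : p' < closedPoint R := e.lt_iff_lt.mp (by rw [hp', hq']; exact hpq.lt)
  have hdim : ringKrullDim (R ⧸ p'.asIdeal) = 1 := by
    have h1 : ringKrullDim (R ⧸ p'.asIdeal) = (Order.coheight p' : WithBot ℕ∞) := by
      rw [ringKrullDim_quotient, Order.coheight_eq_krullDim_Ici]; rfl
    rw [h1, show (Order.coheight p' : ℕ∞) = 1 from ?_]
    · rfl
    refine le_antisymm (Order.coheight_le fun s hs => ?_) ?_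
    · by_contra hcon
      have hlen : 2 ≤ s.length := by
        rcases Nat.lt_or_ge s.length 2 with h | h
        · exact absurd (by exact_mod_cast (show s.length ≤ 1 by omega)) hcon
        · exact h
      have h1 : s.head < s ⟨1, by omega⟩ := s.strictMono (by simp [Fin.lt_def])
      have h2 : s ⟨1, by omega⟩ < s ⟨2, by omega⟩ := s.strictMono (by simp [Fin.lt_def])
      rw [hs] at h1
      refine hpq.2 (c := e (s ⟨1, by omega⟩)) (hp' ▸ e.lt_iff_lt.mpr h1) (lt_of_lt_of_eq (e.lt_iff_lt.mpr ?_) hq')
      exact h2.trans_le (le_maximalIdeal (s ⟨2, by omega⟩).2.ne_top)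
    · exact le_trans (by simp) (Order.length_le_coheight (x := p')
        (p := (RelSeries.singleton _ p').snoc (closedPoint R) hlt) (by simp))
  have h := height_add_dim (A := R) (LocalizedModule q.asIdeal.primeCompl M) hloc (support_localized M hsupp q.asIdeal) p'
  have hhp : p'.asIdeal.height = p.asIdeal.height := by
    rw [← hp']
    exact (IsLocalization.height_under q.asIdeal.primeCompl p'.asIdeal).symm
  rw [hdim, hhp, IsLocalization.AtPrime.ringKrullDim_eq_height q.asIdeal R, ← WithBot.coe_one, ← WithBot.coe_add,
    WithBot.coe_inj] at h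
  rw [← h, add_comm]

theorem length_eq_dim (hM : LocCoh.IsCohenMacaulayModule A M) (hsupp : Module.support A M = Set.univ)
    (s : LTSeries (PrimeSpectrum A)) (hhead : s.head.asIdeal ∈ minimalPrimes A)
    (hlast : s.last.asIdeal = maximalIdeal A)
    (hsat : ∀ i : Fin s.length, s (Fin.castSucc i) ⋖ s (Fin.succ i)) :
    (s.length : WithBot ℕ∞) = ringKrullDim A := by
  have key : ∀ i : Fin (s.length + 1), (s i).asIdeal.height = ((i : ℕ) : ℕ∞) := by
    intro i
    induction i using Fin.induction with
    | zero => exact (Ideal.height_eq_zero_iff.mpr hhead).trans (by simp)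
    | succ i ih => rw [height_covBy M hM hsupp (hsat i), ih]; simp
  rw [← IsLocalRing.maximalIdeal_height_eq_ringKrullDim, ← hlast]
  exact congrArg WithBot.some (key (Fin.last _)).symm

end Groth.Agent.CMChain
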